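import Cfsg.Agent.Lib.Char.Kernel
import Cfsg.Agent.Lib.Char.Degree

/-!
# Kernels and codegrees
-/

set_option autoImplicit false

open scoped ComplexConjugate

namespace Cfsg.Agent.Lib.CharTools

open Cfsg.Agent.Lib.Char

universe u

variable {G : Type u} [Group G] [Finite G]

theorem card_kernel {χ : G → ℂ} (h : IsCharacter G χ) :
    Nat.card {g : G // χ g = χ 1} = Nat.card (charKer χ) :=
  Nat.card_congr (Equiv.subtypeEquivRight fun _ => (mem_charKer h).symm)

/-- The degree times the kernel order divides the group order. -/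
theorem kernel_mul_degree_dvd {χ : G → ℂ} (h : IsIrrCharacter G χ) :
    Nat.card {g : G // χ g = χ 1} * charDegree χ ∣ Nat.card G := by
  have hc := isCharacter_of_isIrr h
  have := charKer_normal hc
  obtain ⟨ψ, hψ, he⟩ := exists_irr_deflation h (charKer χ) fun n hn => (mem_charKer hc).mp hn
  have hd : charDegree χ = charDegree ψ := by
    refine charDegree_eq_of_apply_one ?_
    rw [← he 1, QuotientGroup.mk_one]
    exact apply_one_eq_charDegree (isCharacter_of_isIrr hψ)
  rw [card_kernel hc, hd, Subgroup.card_eq_card_quotient_mul_card_subgroup (charKer χ),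
    mul_comm (Nat.card (G ⧸ charKer χ))]
  exact mul_dvd_mul_left _ (charDegree_dvd_card hψ)

/-- An irreducible character which is constant is principal. -/
theorem eq_one_of_charKer_eq_top {χ : G → ℂ} (h : IsIrrCharacter G χ) (ht : charKer χ = ⊤) :
    χ = fun _ => 1 := by
  have hc := isCharacter_of_isIrr h
  have hd := kernel_mul_degree_dvd h
  rw [card_kernel hc, ht, Subgroup.card_top] at hd
  have h1 : charDegree χ = 1 := by
    have hd' : Nat.card G * charDegree χ ∣ Nat.card G * 1 := by rw [mul_one]; exact hd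
    exact Nat.dvd_one.mp (Nat.dvd_of_mul_dvd_mul_left Nat.card_pos hd')
  funext g
  rw [(mem_charKer hc).mp (ht ▸ Subgroup.mem_top g), apply_one_eq_charDegree hc, h1, Nat.cast_one]

/-- A nonprincipal irreducible character of a simple group is faithful. -/
theorem card_kernel_of_simple [IsSimpleGroup G] {χ : G → ℂ} (h : IsIrrCharacter G χ)
    (h1 : χ ≠ fun _ => 1) : Nat.card {g : G // χ g = χ 1} = 1 := by
  rw [card_kernel (isCharacter_of_isIrr h)]
  rcases (charKer_normal (isCharacter_of_isIrr h)).eq_bot_or_eq_top with hb | ht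
  · rw [hb, Subgroup.card_bot]
  · exact absurd (eq_one_of_charKer_eq_top h ht) h1

/-- For a prime `r` dividing the order, some nonprincipal degree is prime to `r`. -/
theorem exists_degree_not_dvd {r : ℕ} (hr : r.Prime) (hG : r ∣ Nat.card G) :
    ∃ χ : IrrCharacter G, (χ : G → ℂ) ≠ (fun _ => 1) ∧ ¬ r ∣ charDegree (χ : G → ℂ) := by
  classical
  by_contra hc
  push Not at hc
  have hs := sum_charDegree_sq (G := G)
  rw [← Finset.add_sum_erase _ _ (Finset.mem_univ (⟨_, isIrrCharacter_one⟩ : IrrCharacter G)),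
    charDegree_one, one_pow] at hs
  have hd : r ∣ ∑ χ ∈ Finset.univ.erase (⟨_, isIrrCharacter_one⟩ : IrrCharacter G),
      charDegree (χ : G → ℂ) ^ 2 := Finset.dvd_sum fun χ hχ =>
    dvd_pow (hc χ fun h => (Finset.mem_erase.mp hχ).1 (Subtype.ext h)) two_ne_zero
  rw [← hs] at hG
  exact hr.one_lt.ne' (Nat.dvd_one.mp ((Nat.dvd_add_left hd).mp hG))

end Cfsg.Agent.Lib.CharTools
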